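import Groth.Agent.VarBranch.Count
import Groth.Agent.VarBranch.FieldExt
import Groth.Agent.FBase.PointScheme
import Groth.Agent.FBase.Dim

/-!
Geometric branches of a scheme locally of finite type over a field and extension of the field.
-/

set_option autoImplicit false
set_option linter.style.haveILetI false
universe u

open CategoryTheory Limits AlgebraicGeometry TensorProduct
open Groth.Agent.FBase.BC Groth.Agent.FBase.PointScheme

namespace Groth.Agent.VarBranch

/-- Geometric branches of a local ring of a Noetherian ring at a prime. -/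
theorem numGeomBranches_eq_of_equiv {R O : Type u} [CommRing R] [IsNoetherianRing R] [CommRing O]
    [IsLocalRing O] (p : Ideal R) [p.IsPrime] (e : O ≃+* Localization.AtPrime p) {Ω : Type u}
    [Field Ω] [IsAlgClosed Ω] (ψ : R →+* Ω) (hψ : RingHom.ker ψ = p) :
    Brnch.numGeomBranches O = ENat.card (Br R ψ) := by
  letI : Algebra R O := (e.symm.toRingHom.comp (algebraMap R (Localization.AtPrime p))).toAlgebra
  let eA : Localization.AtPrime p ≃ₐ[R] O := AlgEquiv.ofRingEquiv (f := e.symm) fun _ ↦ rfl
  haveI : IsLocalization.AtPrime O p := IsLocalization.isLocalization_of_algEquiv p.primeCompl eA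
  haveI : IsNoetherianRing O :=
    isNoetherianRing_of_ringEquiv (Localization.AtPrime p) e.symm
  have hu : ∀ s : p.primeCompl, IsUnit (ψ s) := fun s ↦ isUnit_iff_ne_zero.mpr fun h0 ↦
    s.2 (hψ.le (RingHom.mem_ker.mpr h0))
  let ψO : O →+* Ω := IsLocalization.lift hu
  have hψO : ψO.comp (algebraMap R O) = ψ := IsLocalization.lift_comp hu
  have hker : RingHom.ker ψO = IsLocalRing.maximalIdeal O := by
    refine le_antisymm (IsLocalRing.le_maximalIdeal (RingHom.ker_ne_top _)) ?_
    rw [← IsLocalization.AtPrime.map_eq_maximalIdeal p O, Ideal.map_le_iff_le_comap,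
      RingHom.comap_ker, hψO, hψ]
  obtain ⟨e'⟩ := exists_br_equiv_localization p ψ hψ ψO hψO
  rw [numGeomBranches_eq (minimalPrimes.finite_of_isNoetherianRing O) ψO hker, ENat.card_congr e']

/-- The number of geometric branches does not change with the base field. -/
theorem numGeomBranchesAt_baseChange {k : Type u} [Field k] {X : Scheme.{u}}
    (f : X ⟶ Spec (CommRingCat.of k)) [LocallyOfFiniteType f] (K : Type u) [Field K] [Algebra k K]
    (y : ↥(pullback f (specMap k K))) :
    Brnch.numGeomBranchesAt X (pullback.fst f (specMap k K) y) =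
      Brnch.numGeomBranchesAt (pullback f (specMap k K)) y := by
  obtain ⟨A, _, _, j, p, _, hp, hj⟩ := exists_chart f (pullback.fst f (specMap k K) y)
  haveI := Groth.Agent.FBase.Dim.finiteType_of_chart f j hj
  haveI : IsNoetherianRing A := Algebra.FiniteType.isNoetherianRing k A
  haveI : IsNoetherianRing (A ⊗[k] K) := by
    haveI : Algebra.FiniteType K (K ⊗[k] A) := inferInstance
    haveI := Algebra.FiniteType.isNoetherianRing K (K ⊗[k] A)
    exact isNoetherianRing_of_ringEquiv (K ⊗[k] A) (Algebra.TensorProduct.comm k K A).toRingEquiv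
  obtain ⟨P, hPp, hPy, ⟨eY⟩⟩ := exists_prime_of_point f j K hj p y hp.symm
  let Ω := AlgebraicClosure P.asIdeal.ResidueField
  let ψB : A ⊗[k] K →+* Ω := (algebraMap P.asIdeal.ResidueField Ω).comp
    (algebraMap (A ⊗[k] K) P.asIdeal.ResidueField)
  letI : Algebra k Ω := (ψB.comp (algebraMap k (A ⊗[k] K))).toAlgebra
  let ψ' : A ⊗[k] K →ₐ[k] Ω := { toRingHom := ψB, commutes' := fun _ ↦ rfl }
  have hkB : RingHom.ker ψ'.toRingHom = P.asIdeal := by
    show RingHom.ker ψB = _
    rw [RingHom.ker_comp_of_injective _ (algebraMap P.asIdeal.ResidueField Ω).injective,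
      Ideal.ker_algebraMap_residueField]
  have hkA : RingHom.ker (baseHom ψ') = p.asIdeal := by
    rw [← RingHom.comap_ker, hkB, hPp]
  obtain ⟨e⟩ := exists_br_equiv_baseChange ψ'
  have hX : Brnch.numGeomBranchesAt X (j p) = ENat.card (Br A (baseHom ψ')) :=
    numGeomBranches_eq_of_equiv p.asIdeal (chartStalkEquiv j p) (baseHom ψ') hkA
  have hY : Brnch.numGeomBranchesAt (pullback f (specMap k K)) y = ENat.card (Br (A ⊗[k] K) ψ'.toRingHom) :=
    numGeomBranches_eq_of_equiv P.asIdeal eY ψ'.toRingHom hkB
  rw [← hp, hX, hY, ENat.card_congr e]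

end Groth.Agent.VarBranch
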